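import Groth.Agent.Lib.Zeta.Series
import Mathlib.FieldTheory.IsAlgClosed.AlgebraicClosure
import Mathlib.FieldTheory.RatFunc.Basic
import Mathlib.Algebra.Polynomial.Laurent
import Mathlib.LinearAlgebra.LinearIndependent.Basic
import Mathlib.RingTheory.Localization.Integral
import Mathlib.FieldTheory.RatFunc.AsPolynomial
import Mathlib.Algebra.Polynomial.Splits

/-!
# Rational exponentials of exponential sums

If `exp (∑ a v / v t ^ v)` is rational, then `a v` is an integral combination of `v`-th powers, and a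
rational function taking such values at the powers of an integer `q > 1` is an integral Laurent polynomial.
-/

universe u

open PowerSeries

namespace GrothLib.ExpSum

open GrothLib.Zeta

theorem isExpOf_exp_subst (N : ℕ → ℚ) (h0 : N 0 = 0) :
    IsExpOf N ((PowerSeries.exp ℚ).subst (PowerSeries.mk fun v : ℕ => if v = 0 then (0 : ℚ) else N v / (v : ℚ))) := by
  set L := PowerSeries.mk fun v : ℕ => if v = 0 then (0 : ℚ) else N v / (v : ℚ) with hL'
  have hL : constantCoeff L = 0 := by
    rw [hL', constantCoeff_mk]; simp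
  have hs := HasSubst.of_constantCoeff_zero' hL
  constructor
  · rw [← coeff_zero_eq_constantCoeff_apply, coeff_subst' hs, finsum_eq_single _ 0 fun d hd => ?_]
    · simp
    · simp [hL, hd]
  · rw [derivative_subst hs, derivative_exp, mul_left_comm]
    congr 1
    ext m
    rcases m with _ | m
    · simp [h0]
    · rw [coeff_succ_X_mul, coeff_derivative, hL', coeff_mk, coeff_mk, if_neg (Nat.succ_ne_zero m)]
      push_cast
      field_simp

theorem isExpOf_unique {R : Type*} [CommRing R] [IsDomain R] {N M : ℕ → R} {F : R⟦X⟧} (hN : IsExpOf N F)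
    (hM : IsExpOf M F) (m : ℕ) : N m = M m := by
  have hF : F ≠ 0 := fun h => by simpa [h] using hN.const
  have h := mul_left_cancel₀ hF (hN.deriv.symm.trans hM.deriv)
  simpa using congrArg (coeff m) h

variable {Ω : Type u} [Field Ω] [IsAlgClosed Ω]

/-- The exponents of a product of factors `1 - α X`. -/
def powSum (s : Multiset Ωˣ) (v : ℕ) : Ω :=
  if v = 0 then 0 else (s.map fun a : Ωˣ => (a : Ω) ^ v).sum

omit [IsAlgClosed Ω] in
theorem isExpOf_prod (s : Multiset Ωˣ) :
    IsExpOf (fun v => -powSum s v) ((s.map fun a : Ωˣ => 1 - C (a : Ω) * X).prod) := by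
  induction s using Multiset.induction with
  | empty =>
    simp only [Multiset.map_zero, Multiset.prod_zero]
    exact isExpOf_one.congr fun m => by simp [powSum]
  | cons a s ih =>
    rw [Multiset.map_cons, Multiset.prod_cons]
    refine ((isExpOf_one_sub_X (a : Ω)).mul ih).congr fun m => ?_
    by_cases hm : m = 0 <;> simp [powSum, hm] <;> ring

theorem exists_factor (P : Polynomial Ω) (hP : P.coeff 0 = 1) :
    ∃ s : Multiset Ωˣ, (P : Ω⟦X⟧) = (s.map fun a : Ωˣ => 1 - C (a : Ω) * X).prod := by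
  classical
  have hsp : P = Polynomial.C P.leadingCoeff * (P.roots.map fun r => Polynomial.X - Polynomial.C r).prod :=
    (IsAlgClosed.splits P).eq_prod_roots
  have hne : ∀ r ∈ P.roots, r ≠ 0 := by
    intro r hr h0
    rw [Polynomial.mem_roots', Polynomial.IsRoot.def, h0, ← Polynomial.coeff_zero_eq_eval_zero, hP] at hr
    exact one_ne_zero hr.2
  let s : Multiset Ωˣ := P.roots.pmap (fun r hr => Units.mk0 r⁻¹ (inv_ne_zero hr)) hne
  refine ⟨s, ?_⟩
  have key : ∀ (m : Multiset Ω) (hm : ∀ r ∈ m, r ≠ 0), ∃ c : Ω,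
      ((m.map fun r => Polynomial.X - Polynomial.C r).prod : Polynomial Ω) =
      Polynomial.C c * ((m.pmap (fun r hr => Units.mk0 r⁻¹ (inv_ne_zero hr)) hm).map
        fun a : Ωˣ => 1 - Polynomial.C (a : Ω) * Polynomial.X).prod := by
    intro m
    induction m using Multiset.induction with
    | empty => exact fun _ => ⟨1, by simp⟩
    | cons r m ih =>
      intro hm
      obtain ⟨c, hc⟩ := ih fun x hx => hm x (Multiset.mem_cons_of_mem hx)
      refine ⟨-r * c, ?_⟩
      rw [Multiset.map_cons, Multiset.prod_cons, Multiset.pmap_cons, Multiset.map_cons, Multiset.prod_cons, hc,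
        Units.val_mk0]
      have hr : Polynomial.C r * Polynomial.C r⁻¹ = 1 := by
        rw [← Polynomial.C_mul, mul_inv_cancel₀ (hm r (Multiset.mem_cons_self r m)), map_one]
      rw [map_mul, map_neg]
      linear_combination (-(Polynomial.C c) * Polynomial.X *
        ((m.pmap (fun r hr => Units.mk0 r⁻¹ (inv_ne_zero hr)) fun x hx => hm x (Multiset.mem_cons_of_mem hx)).map
          fun a : Ωˣ => 1 - Polynomial.C (a : Ω) * Polynomial.X).prod) * hr
  obtain ⟨c, hc⟩ := key P.roots hne
  rw [hc, ← mul_assoc, ← Polynomial.C_mul] at hsp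
  have h1 := congrArg (fun p => Polynomial.eval 0 p) hsp
  simp only [Polynomial.eval_mul, Polynomial.eval_C, Polynomial.eval_multiset_prod, Multiset.map_map,
    Function.comp_def, Polynomial.eval_sub, Polynomial.eval_one, Polynomial.eval_X, mul_zero, sub_zero,
    Multiset.map_const', Multiset.prod_replicate, one_pow, mul_one] at h1
  rw [← Polynomial.coeff_zero_eq_eval_zero, hP] at h1
  rw [← h1, map_one, one_mul] at hsp
  conv_lhs => rw [hsp]
  rw [← Polynomial.coeToPowerSeries.ringHom_apply, map_multiset_prod, Multiset.map_map]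
  congr 1
  exact Multiset.map_congr rfl fun a _ => by simp

/-- A rational exponential has exponents given by sums of powers. -/
theorem exists_powSum_eq (N : ℕ → ℚ) (h0 : N 0 = 0) (ι : ℚ →+* Ω)
    (h : ∃ P Q : Polynomial ℚ, Q ≠ 0 ∧
      (PowerSeries.exp ℚ).subst (PowerSeries.mk fun v : ℕ => if v = 0 then (0 : ℚ) else N v / (v : ℚ))
        * (Q : ℚ⟦X⟧) = (P : ℚ⟦X⟧)) :
    ∃ s t : Multiset Ωˣ, ∀ v, ι (N v) = powSum s v - powSum t v := by
  obtain ⟨P, Q, hQ, hPQ⟩ := h
  set G := (PowerSeries.exp ℚ).subst (PowerSeries.mk fun v : ℕ => if v = 0 then (0 : ℚ) else N v / (v : ℚ))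
  have hG : IsExpOf N G := isExpOf_exp_subst N h0
  obtain ⟨Q₁, hQ₁, hQ₁0⟩ := Polynomial.exists_eq_pow_rootMultiplicity_mul_and_not_dvd Q hQ 0
  set a := Q.rootMultiplicity 0
  rw [map_zero, sub_zero] at hQ₁ hQ₁0
  rw [Polynomial.X_dvd_iff] at hQ₁0
  have hXa : (PowerSeries.X : ℚ⟦X⟧) ^ a ∣ (P : ℚ⟦X⟧) :=
    ⟨G * (Q₁ : ℚ⟦X⟧), by rw [← hPQ, hQ₁, Polynomial.coe_mul, Polynomial.coe_pow, Polynomial.coe_X]; ring⟩
  have hXa' : (Polynomial.X : Polynomial ℚ) ^ a ∣ P := by
    rw [Polynomial.X_pow_dvd_iff]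
    intro d hd
    rw [← Polynomial.coeff_coe]
    exact PowerSeries.X_pow_dvd_iff.mp hXa d hd
  obtain ⟨P₁, rfl⟩ := hXa'
  have h1 : G * (Q₁ : ℚ⟦X⟧) = (P₁ : ℚ⟦X⟧) := by
    apply mul_left_cancel₀ (pow_ne_zero a PowerSeries.X_ne_zero)
    rw [hQ₁, Polynomial.coe_mul, Polynomial.coe_mul, Polynomial.coe_pow, Polynomial.coe_X] at hPQ
    rw [← hPQ]; ring
  set c := Q₁.coeff 0
  have hP₁ : P₁.coeff 0 = c := by
    have h2 := congrArg constantCoeff h1
    rw [map_mul, hG.const, one_mul, Polynomial.constantCoeff_coe, Polynomial.constantCoeff_coe] at h2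
    exact h2.symm
  obtain ⟨t, ht⟩ := exists_factor ((Polynomial.C c⁻¹ * Q₁).map ι) (by
    rw [Polynomial.coeff_map, Polynomial.coeff_C_mul, inv_mul_cancel₀ hQ₁0, map_one])
  obtain ⟨s, hs⟩ := exists_factor ((Polynomial.C c⁻¹ * P₁).map ι) (by
    rw [Polynomial.coeff_map, Polynomial.coeff_C_mul, hP₁, inv_mul_cancel₀ hQ₁0, map_one])
  have h3 : PowerSeries.map ι G * (((Polynomial.C c⁻¹ * Q₁).map ι : Polynomial Ω) : Ω⟦X⟧) =
      (((Polynomial.C c⁻¹ * P₁).map ι : Polynomial Ω) : Ω⟦X⟧) := by
    rw [Polynomial.polynomial_map_coe, Polynomial.polynomial_map_coe, ← map_mul, Polynomial.coe_mul,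
      Polynomial.coe_mul, mul_left_comm, h1]
  rw [hs, ht] at h3
  have h4 := (hG.map ι).mul (isExpOf_prod t)
  rw [h3] at h4
  refine ⟨t, s, fun v => ?_⟩
  have h5 := isExpOf_unique h4 (isExpOf_prod s) v
  simp only [Pi.add_apply] at h5
  linear_combination h5

section
variable {G : Type*} [CommGroup G]

/-- Evaluation of the group algebra at the `v`-th powers. -/
noncomputable def evalPow (v : ℕ) : MonoidAlgebra ℤ Ωˣ →+* Ω :=
  (MonoidAlgebra.lift ℤ Ω Ωˣ ((Units.coeHom Ω).comp (powMonoidHom v))).toRingHom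

omit [IsAlgClosed Ω] in
theorem evalPow_single (v : ℕ) (g : Ωˣ) (c : ℤ) :
    evalPow v (MonoidAlgebra.single g c) = (c : Ω) * (g : Ω) ^ v := by
  simp [evalPow]

omit [IsAlgClosed Ω] in
theorem eq_zero_of_evalPow [CharZero Ω] (Z : MonoidAlgebra ℤ Ωˣ) (v₀ : ℕ)
    (h : ∀ v, v₀ ≤ v → evalPow v Z = 0) : Z = 0 := by
  classical
  have hli : LinearIndependent Ω (fun g : Ωˣ =>
      ((powersHom Ω (g : Ω) : Multiplicative ℕ →* Ω) : Multiplicative ℕ → Ω)) := by
    refine (linearIndependent_monoidHom (Multiplicative ℕ) Ω).comp (fun g : Ωˣ => powersHom Ω (g : Ω)) ?_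
    intro a b hab
    exact Units.ext (by simpa using DFunLike.congr_fun hab (Multiplicative.ofAdd 1))
  rw [linearIndependent_iff'] at hli
  have key := hli Z.coeff.support (fun g => (Z.coeff g : Ω) * (g : Ω) ^ v₀) (by
    funext n
    have hv := h (v₀ + n.toAdd) (Nat.le_add_right _ _)
    rw [← MonoidAlgebra.sum_single Z, Finsupp.sum, map_sum] at hv
    simp only [evalPow_single, pow_add] at hv
    simpa [Finset.sum_apply, mul_assoc] using hv)
  refine MonoidAlgebra.coeff_injective (Finsupp.ext fun g => ?_)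
  by_cases hg : g ∈ Z.coeff.support
  · have := key g hg
    simpa using (mul_eq_zero.mp this).resolve_right (pow_ne_zero _ g.ne_zero)
  · simpa using hg

/-- The part of an element of the group algebra supported on the powers of `q`. -/
noncomputable def powPart (q : G) (hq : Function.Injective fun n : ℤ => q ^ n) (Z : MonoidAlgebra ℤ G) :
    LaurentPolynomial ℤ :=
  AddMonoidAlgebra.ofCoeff (Z.coeff.comapDomain (fun n : ℤ => q ^ n) hq.injOn)

theorem coeff_powPart (q : G) (hq : Function.Injective fun n : ℤ => q ^ n) (Z : MonoidAlgebra ℤ G) (n : ℤ) :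
    (powPart q hq Z).coeff n = Z.coeff (q ^ n) := rfl

theorem powPart_single_mul (q : G) (hq : Function.Injective fun n : ℤ => q ^ n) (Z : MonoidAlgebra ℤ G)
    (j : ℕ) (c : ℤ) : powPart q hq (MonoidAlgebra.single (q ^ j) c * Z) =
      LaurentPolynomial.C c * LaurentPolynomial.T j * powPart q hq Z := by
  rw [← LaurentPolynomial.single_eq_C_mul_T]
  refine AddMonoidAlgebra.coeff_injective (Finsupp.ext fun n => ?_)
  rw [coeff_powPart, MonoidAlgebra.coeff_single_mul_apply, AddMonoidAlgebra.coeff_single_mul_apply,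
    coeff_powPart, zpow_add, zpow_neg, zpow_natCast]

theorem powPart_mul (q : G) (hq : Function.Injective fun n : ℤ => q ^ n) (Z : MonoidAlgebra ℤ G)
    (P : Polynomial ℤ) :
    powPart q hq (Polynomial.aeval (MonoidAlgebra.of ℤ G q) P * Z) = Polynomial.toLaurent P * powPart q hq Z := by
  induction P using Polynomial.induction_on' with
  | add P Q hP hQ =>
    rw [map_add, add_mul, map_add, add_mul, ← hP, ← hQ]
    refine AddMonoidAlgebra.coeff_injective (Finsupp.ext fun n => ?_)
    simp [coeff_powPart]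
  | monomial j c =>
    rw [Polynomial.aeval_monomial, ← map_pow, MonoidAlgebra.of_apply, Polynomial.toLaurent_C_mul_T,
      ← powPart_single_mul q hq]
    congr 2
    rw [Algebra.algebraMap_eq_smul_one, smul_mul_assoc, one_mul, MonoidAlgebra.smul_single', mul_one]

end

/-- A rational function whose values at the powers of `q` are power sums is an integral Laurent polynomial. -/
theorem laurent_of_powSum [CharZero Ω] (q : ℤ) (hq : 1 < q) (F : RatFunc ℚ) (ι : ℚ →+* Ω)
    (s t : Multiset Ωˣ)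
    (h : ∀ v : ℕ, v ≠ 0 → ι (F.eval (RingHom.id ℚ) ((q : ℚ) ^ v)) = powSum s v - powSum t v) :
    ∃ (P : Polynomial ℤ) (a : ℕ),
      F * RatFunc.X ^ a = algebraMap (Polynomial ℚ) (RatFunc ℚ) (P.map (Int.castRingHom ℚ)) := by
  classical
  have hqΩ : (q : Ω) ≠ 0 := Int.cast_ne_zero.mpr (by omega)
  let qu : Ωˣ := Units.mk0 (q : Ω) hqΩ
  have hinj : Function.Injective fun n : ℤ => qu ^ n := by
    intro m n hmn
    have h1 := congrArg (fun u : Ωˣ => (u : Ω)) hmn
    simp only [Units.val_zpow_eq_zpow_val, qu, Units.val_mk0] at h1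
    rw [← Rat.cast_intCast, ← Rat.cast_zpow, ← Rat.cast_zpow] at h1
    exact zpow_right_injective₀ (by exact_mod_cast (show (0 : ℤ) < q by omega))
      (by exact_mod_cast hq.ne') (Rat.cast_injective h1)
  -- integral numerator and denominator
  obtain ⟨b₁, hb₁, hn⟩ := IsLocalization.integerNormalization_spec (nonZeroDivisors ℤ) F.num
  obtain ⟨b₂, hb₂, hd⟩ := IsLocalization.integerNormalization_spec (nonZeroDivisors ℤ) F.denom
  set n₀ := IsLocalization.integerNormalization (nonZeroDivisors ℤ) F.num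
  set d₀ := IsLocalization.integerNormalization (nonZeroDivisors ℤ) F.denom
  let Nz : Polynomial ℤ := Polynomial.C b₂ * n₀
  let Dz : Polynomial ℤ := Polynomial.C b₁ * d₀
  have hNz : Nz.map (Int.castRingHom ℚ) = Polynomial.C ((b₁ : ℚ) * b₂) * F.num := by
    rw [Polynomial.map_mul, Polynomial.map_C, show n₀.map (Int.castRingHom ℚ) = (b₁ : ℚ) • F.num by
      rw [← algebraMap_int_eq, hn, ← Int.cast_smul_eq_zsmul ℚ], Polynomial.smul_eq_C_mul, map_mul]
    simp only [eq_intCast]; ring
  have hDz : Dz.map (Int.castRingHom ℚ) = Polynomial.C ((b₁ : ℚ) * b₂) * F.denom := by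
    rw [Polynomial.map_mul, Polynomial.map_C, show d₀.map (Int.castRingHom ℚ) = (b₂ : ℚ) • F.denom by
      rw [← algebraMap_int_eq, hd, ← Int.cast_smul_eq_zsmul ℚ], Polynomial.smul_eq_C_mul, map_mul]
    simp only [eq_intCast]; ring
  have hb : ((b₁ : ℚ) * b₂) ≠ 0 :=
    mul_ne_zero (Int.cast_ne_zero.mpr (nonZeroDivisors.ne_zero hb₁)) (Int.cast_ne_zero.mpr (nonZeroDivisors.ne_zero hb₂))
  -- almost all powers of q avoid the poles
  have hfin : {v : ℕ | F.denom.IsRoot ((q : ℚ) ^ v)}.Finite :=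
    (Polynomial.finite_setOf_isRoot F.denom_ne_zero).preimage
      ((pow_right_injective₀ (by exact_mod_cast (show (0 : ℤ) < q by omega)) (by exact_mod_cast hq.ne')).injOn)
  obtain ⟨B, hB⟩ := hfin.bddAbove
  let M : MonoidAlgebra ℤ Ωˣ :=
    (s.map fun a => MonoidAlgebra.of ℤ Ωˣ a).sum - (t.map fun a => MonoidAlgebra.of ℤ Ωˣ a).sum
  let E : Polynomial ℤ →ₐ[ℤ] MonoidAlgebra ℤ Ωˣ := Polynomial.aeval (MonoidAlgebra.of ℤ Ωˣ qu)
  have hE : ∀ (v : ℕ) (R : Polynomial ℤ), evalPow v (E R) = ι ((R.map (Int.castRingHom ℚ)).eval ((q : ℚ) ^ v)) := by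
    intro v R
    induction R using Polynomial.induction_on' with
    | add P Q hP hQ => simp only [map_add, Polynomial.map_add, Polynomial.eval_add, hP, hQ]
    | monomial j c =>
      simp only [E, Polynomial.aeval_monomial, map_mul, map_pow, MonoidAlgebra.of_apply, evalPow_single,
        Polynomial.map_monomial, Polynomial.eval_monomial, eq_intCast, map_intCast, qu, Units.val_mk0,
        Int.cast_one, one_mul, ← pow_mul, mul_comm j v]
  have hM : ∀ v : ℕ, v ≠ 0 → evalPow v M = powSum s v - powSum t v := by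
    intro v hv
    simp only [M, map_sub, map_multiset_sum, Multiset.map_map, Function.comp_def, MonoidAlgebra.of_apply,
      evalPow_single, Int.cast_one, one_mul, powSum, hv, if_false]
  have hkey : E Dz * M = E Nz := by
    rw [← sub_eq_zero]
    refine eq_zero_of_evalPow _ (B + 1) fun v hv => ?_
    have hv0 : v ≠ 0 := by omega
    rw [map_sub, map_mul, hE, hE, hM v hv0, ← h v hv0, ← map_mul, ← map_sub]
    convert map_zero ι
    have hne : F.denom.eval ((q : ℚ) ^ v) ≠ 0 := fun h0 => by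
      have := hB h0; omega
    rw [hNz, hDz, RatFunc.eval, Polynomial.eval₂_id, Polynomial.eval₂_id, Polynomial.eval_mul,
      Polynomial.eval_mul, Polynomial.eval_C]
    field_simp
    ring
  -- keep the part supported on powers of q
  have hpart := congrArg (powPart qu hinj) hkey
  rw [show E Nz = Polynomial.aeval (MonoidAlgebra.of ℤ Ωˣ qu) Nz * 1 from (mul_one _).symm,
    show E Dz = Polynomial.aeval (MonoidAlgebra.of ℤ Ωˣ qu) Dz from rfl, powPart_mul, powPart_mul] at hpart
  have h1 : powPart qu hinj (1 : MonoidAlgebra ℤ Ωˣ) = 1 := by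
    refine AddMonoidAlgebra.coeff_injective (Finsupp.ext fun n => ?_)
    rw [coeff_powPart, MonoidAlgebra.one_def, AddMonoidAlgebra.one_def, MonoidAlgebra.coeff_single,
      AddMonoidAlgebra.coeff_single, Finsupp.single_apply, Finsupp.single_apply]
    exact if_congr ⟨fun h => hinj (by simpa using h), fun h => by simp [← h]⟩ rfl rfl
  rw [h1, mul_one] at hpart
  obtain ⟨a, P₀, hP₀⟩ := LaurentPolynomial.exists_T_pow (powPart qu hinj M)
  have hpoly : Dz * P₀ = Nz * Polynomial.X ^ a := by
    apply Polynomial.toLaurent_injective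
    rw [map_mul Polynomial.toLaurent Dz, map_mul Polynomial.toLaurent Nz, hP₀, Polynomial.toLaurent_X_pow, ← mul_assoc, hpart]
  refine ⟨P₀, a, ?_⟩
  have h2 := congrArg (fun p => algebraMap (Polynomial ℚ) (RatFunc ℚ) (p.map (Int.castRingHom ℚ))) hpoly
  simp only [Polynomial.map_mul, hDz, hNz, Polynomial.map_pow, Polynomial.map_X, map_mul, map_pow,
    RatFunc.algebraMap_X] at h2
  have hD : algebraMap (Polynomial ℚ) (RatFunc ℚ) (Polynomial.C ((b₁ : ℚ) * b₂)) *
      algebraMap (Polynomial ℚ) (RatFunc ℚ) F.denom ≠ 0 := by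
    rw [← map_mul]
    exact RatFunc.algebraMap_ne_zero (mul_ne_zero (Polynomial.C_ne_zero.mpr hb) F.denom_ne_zero)
  apply mul_left_cancel₀ hD
  simp only [map_mul] at h2 ⊢
  have hF' : F * algebraMap (Polynomial ℚ) (RatFunc ℚ) F.denom = algebraMap (Polynomial ℚ) (RatFunc ℚ) F.num := by
    conv_rhs => rw [← div_mul_cancel₀ (algebraMap (Polynomial ℚ) (RatFunc ℚ) F.num) (RatFunc.algebraMap_ne_zero F.denom_ne_zero),
      RatFunc.num_div_denom F]
  linear_combination (algebraMap (Polynomial ℚ) (RatFunc ℚ) (Polynomial.C (b₁ : ℚ)) *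
    algebraMap (Polynomial ℚ) (RatFunc ℚ) (Polynomial.C (b₂ : ℚ)) * RatFunc.X ^ a) * hF' - h2

end GrothLib.ExpSum
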